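import Mathlib.RingTheory.Etale.Basic
import Mathlib.RingTheory.Unramified.Finite
import Mathlib.RingTheory.MvPolynomial.Basic
import Mathlib.RingTheory.Ideal.Quotient.Nilpotent
import Mathlib.RingTheory.FinitePresentation
import Mathlib.Algebra.Algebra.Epi
import Mathlib.Algebra.CharP.Lemmas
import Mathlib.Data.Matrix.Block
import Mathlib.Data.Matrix.Mul

/-!
# Finite etale algebras in characteristic `p` lift to finite etale algebras (up to a quotient)
-/

set_option autoImplicit false

universe u

open TensorProduct Matrix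

namespace Groth.Agent.H80.CharPLift

theorem add_pow_of_natCast {R : Type*} [CommRing R] {p : ℕ} (hp : p.Prime) (h : (p : R) = 0) (a b : R) :
    (a + b) ^ p = a ^ p + b ^ p := by
  obtain ⟨r, hr⟩ := exists_add_pow_prime_eq hp a b
  rw [hr, h, zero_mul, zero_mul, zero_mul, add_zero]

/-- In characteristic `p` an unramified finite algebra is generated by `p`-th powers. -/
theorem adjoin_pow_eq_top {A B : Type u} [CommRing A] [CommRing B] [Algebra A B] [Module.Finite A B]
    [Algebra.FormallyUnramified A B] [Algebra.EssFiniteType A B] {p : ℕ} (hp : p.Prime) (hpA : (p : A) = 0) :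
    Algebra.adjoin A (Set.range fun b : B => b ^ p) = ⊤ := by
  let B₀ := Algebra.adjoin A (Set.range fun b : B => b ^ p)
  have : Module.Finite B₀ B := Module.Finite.of_restrictScalars_finite A B₀ B
  have : Algebra.FormallyUnramified B₀ B := Algebra.FormallyUnramified.of_restrictScalars A B₀ B
  have : Algebra.EssFiniteType B₀ B := Algebra.EssFiniteType.of_comp A B₀ B
  have hpT : (p : B ⊗[B₀] B) = 0 := by rw [← map_natCast (algebraMap A (B ⊗[B₀] B)), hpA, map_zero]
  have hepi : Algebra.IsEpi B₀ B := by
    rw [Algebra.isEpi_iff_forall_one_tmul_eq]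
    intro b
    let e := Algebra.FormallyUnramified.elem B₀ B
    have hnil : ∀ z : B ⊗[B₀] B, z ^ p =
        ((Algebra.TensorProduct.lmul' B₀ z) ^ p) ⊗ₜ[B₀] (1 : B) := by
      intro z
      induction z with
      | zero => simp [zero_pow hp.ne_zero]
      | add z z' hz hz' =>
        rw [add_pow_of_natCast hp hpT, hz, hz', map_add,
          add_pow_of_natCast hp (by rw [← map_natCast (algebraMap A B), hpA, map_zero]), add_tmul]
      | tmul x y =>
        rw [Algebra.TensorProduct.tmul_pow, Algebra.TensorProduct.lmul'_apply_tmul, mul_pow,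
          show y ^ p = (⟨y ^ p, Algebra.subset_adjoin ⟨y, rfl⟩⟩ : B₀) • (1 : B) by
            simp [Algebra.smul_def], ← smul_tmul]
        congr 1
        simp [Algebra.smul_def, mul_comm]
    have he : e = 1 := by
      have hie : e * e = e := by
        have key : ∀ t, t * e = (Algebra.TensorProduct.lmul' B₀ t ⊗ₜ[B₀] (1 : B)) * e := by
          intro t
          induction t with
          | zero => simp
          | add t t' ht ht' => rw [add_mul, ht, ht', map_add, add_tmul, add_mul]
          | tmul x y =>
            rw [Algebra.TensorProduct.lmul'_apply_tmul,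
              show x ⊗ₜ[B₀] y = (x ⊗ₜ[B₀] 1) * ((1 : B) ⊗ₜ[B₀] y) by simp, mul_assoc,
              Algebra.FormallyUnramified.one_tmul_mul_elem, ← mul_assoc]
            simp
            rfl
        rw [key, Algebra.FormallyUnramified.lmul_elem]
        exact one_mul e
      have := hnil (1 - e)
      rw [map_sub, map_one, Algebra.FormallyUnramified.lmul_elem, sub_self, zero_pow hp.ne_zero,
        zero_tmul] at this
      have h := (IsIdempotentElem.one_sub (show IsIdempotentElem e from hie)).pow_eq hp.ne_zero
      rw [this] at h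
      exact (sub_eq_zero.mp h.symm).symm
    have := Algebra.FormallyUnramified.one_tmul_mul_elem (R := B₀) b
    change _ * e = _ * e at this
    rwa [he, mul_one, mul_one] at this
  refine top_le_iff.mp fun b _ => ?_
  obtain ⟨c, rfl⟩ := Algebra.isEpi_iff_surjective_algebraMap_of_finite.mp hepi b
  exact c.2

theorem span_pow_eq_top {A B : Type u} [CommRing A] [CommRing B] [Algebra A B] [Module.Finite A B]
    [Algebra.FormallyUnramified A B] [Algebra.EssFiniteType A B] {p : ℕ} (hp : p.Prime) (hpA : (p : A) = 0)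
    {m : ℕ} (x : Fin m → B) (hx : Submodule.span A (Set.range x) = ⊤) :
    Submodule.span A (Set.range fun i => x i ^ p) = ⊤ := by
  have hpB : (p : B) = 0 := by rw [← map_natCast (algebraMap A B), hpA, map_zero]
  have key : ∀ b : B, b ^ p ∈ Submodule.span A (Set.range fun i => x i ^ p) := by
    intro b
    have hb : b ∈ Submodule.span A (Set.range x) := hx ▸ trivial
    induction hb using Submodule.span_induction with
    | mem z hz => obtain ⟨i, rfl⟩ := hz; exact Submodule.subset_span ⟨i, rfl⟩
    | zero => rw [zero_pow hp.ne_zero]; exact zero_mem _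
    | add z z' _ _ hz hz' => rw [add_pow_of_natCast hp hpB]; exact add_mem hz hz'
    | smul a z _ hz => rw [_root_.smul_pow]; exact Submodule.smul_mem _ _ hz
  rw [eq_top_iff, ← Algebra.top_toSubmodule, ← adjoin_pow_eq_top (A := A) (B := B) hp hpA,
    Algebra.adjoin_eq_span, Submodule.span_le]
  intro z hz
  have : z ∈ Set.range fun b : B => b ^ p := by
    induction hz using Submonoid.closure_induction with
    | mem z hz => exact hz
    | one => exact ⟨1, one_pow p⟩
    | mul a b _ _ ha hb =>
      obtain ⟨a, rfl⟩ := ha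
      obtain ⟨b, rfl⟩ := hb
      exact ⟨a * b, mul_pow a b p⟩
  obtain ⟨b, rfl⟩ := this
  exact key b

variable {R : Type u} [CommRing R] {ι : Type} [Fintype ι] [DecidableEq ι]

/-- The relations `Xᵢ^p = ∑ Dᵢⱼ Xⱼ`. -/
noncomputable def rel (p : ℕ) (D : Matrix ι ι R) (i : ι) : MvPolynomial ι R :=
  MvPolynomial.X i ^ p - ∑ j, MvPolynomial.C (D i j) * MvPolynomial.X j

/-- The algebra of fixed points of a Frobenius structure. -/
abbrev frobAlg (p : ℕ) (D : Matrix ι ι R) : Type u :=
  MvPolynomial ι R ⧸ Ideal.span (Set.range (rel p D))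

/-- The coordinates of `frobAlg`. -/
noncomputable def gen (p : ℕ) (D : Matrix ι ι R) (i : ι) : frobAlg p D :=
  Ideal.Quotient.mk _ (MvPolynomial.X i)

theorem gen_pow (p : ℕ) (D : Matrix ι ι R) (i : ι) :
    gen p D i ^ p = ∑ j, algebraMap R (frobAlg p D) (D i j) * gen p D j := by
  have : Ideal.Quotient.mk (Ideal.span (Set.range (rel p D))) (rel p D i) = 0 :=
    Ideal.Quotient.eq_zero_iff_mem.mpr (Ideal.subset_span ⟨i, rfl⟩)
  simp only [rel, map_sub, map_pow, map_sum, map_mul, sub_eq_zero] at this
  exact this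

theorem finite_frobAlg {p : ℕ} (hp : 2 ≤ p) (D : Matrix ι ι R) : Module.Finite R (frobAlg p D) := by
  classical
  let S : Set (frobAlg p D) := Set.range fun a : ι → Fin p => ∏ i, gen p D i ^ (a i : ℕ)
  refine ⟨⟨(Set.finite_range fun a : ι → Fin p => ∏ i, gen p D i ^ (a i : ℕ)).toFinset, ?_⟩⟩
  rw [Set.Finite.coe_toFinset, eq_top_iff]
  have key : ∀ N, ∀ a : ι → ℕ, ∑ i, a i = N → ∏ i, gen p D i ^ a i ∈ Submodule.span R S := by
    intro N
    induction N using Nat.strong_induction_on with
    | _ N ih =>
      intro a ha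
      by_cases hall : ∀ i, a i < p
      · exact Submodule.subset_span ⟨fun i => ⟨a i, hall i⟩, rfl⟩
      push Not at hall
      obtain ⟨i, hi⟩ := hall
      let b : ι → ℕ := Function.update a i (a i - p)
      have hsumb : ∑ k, b k + p = N := by
        rw [Finset.sum_update_of_mem (Finset.mem_univ i), ← ha,
          ← Finset.add_sum_erase _ a (Finset.mem_univ i), Finset.sdiff_singleton_eq_erase]
        omega
      have hprod : ∏ k, gen p D k ^ a k = (∏ k, gen p D k ^ b k) * gen p D i ^ p := by
        rw [← Finset.mul_prod_erase _ _ (Finset.mem_univ i),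
          ← Finset.mul_prod_erase Finset.univ (fun k => gen p D k ^ b k) (Finset.mem_univ i)]
        rw [Finset.prod_congr rfl (s₁ := Finset.univ.erase i) (f := fun k => gen p D k ^ b k)
          (g := fun k => gen p D k ^ a k) fun k hk => by
            simp [b, Function.update_of_ne (Finset.ne_of_mem_erase hk)]]
        simp only [b, Function.update_self]
        conv_lhs => rw [← Nat.sub_add_cancel hi, pow_add]
        ring
      rw [hprod, gen_pow, Finset.mul_sum]
      refine Submodule.sum_mem _ fun j _ => ?_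
      rw [mul_left_comm, ← Algebra.smul_def]
      refine Submodule.smul_mem _ _ ?_
      have : (∏ k, gen p D k ^ b k) * gen p D j = ∏ k, gen p D k ^ (Function.update b j (b j + 1)) k := by
        rw [← Finset.mul_prod_erase Finset.univ (fun k => gen p D k ^ b k) (Finset.mem_univ j),
          ← Finset.mul_prod_erase Finset.univ (fun k => gen p D k ^ (Function.update b j (b j + 1)) k) (Finset.mem_univ j),
          Finset.prod_congr rfl (g := fun k => gen p D k ^ b k)
            (s₁ := Finset.univ.erase j) (f := fun k => gen p D k ^ (Function.update b j (b j + 1)) k) fun k hk => by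
          simp [Function.update_of_ne (Finset.ne_of_mem_erase hk)]]
        simp only [Function.update_self, pow_succ]
        ring
      rw [this]
      refine ih (∑ k, Function.update b j (b j + 1) k) ?_ _ rfl
      rw [Finset.sum_update_of_mem (Finset.mem_univ j), Finset.sdiff_singleton_eq_erase]
      have := Finset.add_sum_erase _ b (Finset.mem_univ j)
      omega
  intro y hy
  clear hy
  obtain ⟨q, rfl⟩ := Ideal.Quotient.mk_surjective y
  induction q using MvPolynomial.induction_on' with
  | monomial u r =>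
    rw [MvPolynomial.monomial_eq, map_mul, Finsupp.prod_fintype _ _ (fun i => pow_zero _), map_prod]
    simp only [map_pow]
    rw [show Ideal.Quotient.mk (Ideal.span (Set.range (rel p D))) (MvPolynomial.C r) =
      algebraMap R (frobAlg p D) r from rfl, ← Algebra.smul_def]
    exact Submodule.smul_mem _ _ (key _ _ rfl)
  | add q q' hq hq' => rw [map_add]; exact add_mem hq hq'

theorem etale_frobAlg {p : ℕ} (hp : p.Prime) (hpR : (p : R) = 0) (D E : Matrix ι ι R) (hDE : D * E = 1)
    (hED : E * D = 1) : Algebra.Etale R (frobAlg p D) := by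
  classical
  refine ⟨?_, Algebra.FinitePresentation.quotient (Submodule.fg_span (Set.finite_range _))⟩
  rw [Algebra.FormallyEtale.iff_comp_bijective]
  intro S _ _ I hI
  have hpS : (p : S) = 0 := by rw [← map_natCast (algebraMap R S), hpR, map_zero]
  have hsq : ∀ e ∈ I, e ^ p = 0 := fun e he => by
    have h1 : e ^ p ∈ I ^ p := Ideal.pow_mem_pow he p
    exact (Submodule.mem_bot S).mp (hI ▸ Ideal.pow_le_pow_right hp.two_le h1)
  let DS : Matrix ι ι S := D.map (algebraMap R S)
  let ES : Matrix ι ι S := E.map (algebraMap R S)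
  have hDES : DS * ES = 1 := by rw [← Matrix.map_mul, hDE, Matrix.map_one _ (map_zero _) (map_one _)]
  have hEDS : ES * DS = 1 := by rw [← Matrix.map_mul, hED, Matrix.map_one _ (map_zero _) (map_one _)]
  have hsol : ∀ f : frobAlg p D →ₐ[R] S, (fun i => f (gen p D i) ^ p) = DS.mulVec fun j => f (gen p D j) := by
    intro f
    funext i
    rw [← map_pow, gen_pow, map_sum]
    simp [DS, Matrix.mulVec, dotProduct]
  refine ⟨fun f g hfg => ?_, fun fb => ?_⟩
  · have hd : ∀ i, f (gen p D i) - g (gen p D i) ∈ I := fun i =>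
      Ideal.Quotient.eq.mp (AlgHom.congr_fun hfg (gen p D i))
    have heq : (fun i => f (gen p D i) ^ p) = fun i => g (gen p D i) ^ p := funext fun i => by
      conv_lhs => rw [← sub_add_cancel (f (gen p D i)) (g (gen p D i))]
      rw [add_pow_of_natCast hp hpS, hsq _ (hd i), zero_add]
    rw [hsol, hsol] at heq
    have := congrArg ES.mulVec heq
    rw [Matrix.mulVec_mulVec, Matrix.mulVec_mulVec, hEDS, Matrix.one_mulVec, Matrix.one_mulVec] at this
    exact Ideal.Quotient.algHom_ext _ (MvPolynomial.algHom_ext fun i => congrFun this i)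
  · choose y hy using fun i => Ideal.Quotient.mk_surjective (fb (gen p D i))
    let d : ι → S := fun i => y i ^ p - DS.mulVec y i
    have hd : ∀ i, d i ∈ I := fun i => by
      rw [← Ideal.Quotient.eq_zero_iff_mem, map_sub, map_pow, hy, ← map_pow, gen_pow, map_sum, sub_eq_zero,
        Matrix.mulVec, dotProduct, map_sum]
      refine Finset.sum_congr rfl fun j _ => ?_
      rw [map_mul, map_mul, hy, AlgHom.commutes]
      rfl
    let z : ι → S := fun i => y i + ES.mulVec d i
    have hεI : ∀ i, ES.mulVec d i ∈ I := fun i => by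
      rw [Matrix.mulVec, dotProduct]
      exact Ideal.sum_mem _ fun j _ => Ideal.mul_mem_left _ _ (hd j)
    have hz : ∀ i, z i ^ p = DS.mulVec z i := fun i => by
      rw [add_pow_of_natCast hp hpS, hsq _ (hεI i), add_zero, show z = y + ES.mulVec d from rfl,
        Matrix.mulVec_add, Matrix.mulVec_mulVec, hDES, Matrix.one_mulVec, Pi.add_apply]
      simp only [d]
      ring
    have hker : ∀ q ∈ Ideal.span (Set.range (rel p D)), MvPolynomial.aeval (R := R) z q = 0 := fun q hq => by
      refine (Ideal.span_le (I := RingHom.ker (MvPolynomial.aeval (R := R) z))).mpr ?_ hq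
      rintro _ ⟨i, rfl⟩
      simp [rel, hz i, DS, Matrix.mulVec, dotProduct]
    refine ⟨Ideal.Quotient.liftₐ _ (MvPolynomial.aeval (R := R) z) hker, ?_⟩
    refine Ideal.Quotient.algHom_ext _ (MvPolynomial.algHom_ext fun i => ?_)
    change Ideal.Quotient.mk I (MvPolynomial.aeval (R := R) z (MvPolynomial.X i)) = fb (gen p D i)
    rw [MvPolynomial.aeval_X, map_add, hy, (Ideal.Quotient.eq_zero_iff_mem (I := I)).mpr (hεI i), add_zero]

/-- Finite etale algebras over a quotient in characteristic `p` are quotients of finite etale algebras. -/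
theorem exists_lift {R A B : Type u} [CommRing R] [CommRing A] [CommRing B] {p : ℕ} (hp : p.Prime)
    (hpR : (p : R) = 0) [Algebra R A] (hRA : Function.Surjective (algebraMap R A)) [Algebra A B]
    [Module.Finite A B] [Algebra.Etale A B] :
    ∃ (C : Type u) (_ : CommRing C) (_ : Algebra R C), Module.Finite R C ∧ Algebra.Etale R C ∧
      ∃ ψ : A ⊗[R] C →ₐ[A] B, Function.Surjective ψ := by
  classical
  have hpA : (p : A) = 0 := by rw [← map_natCast (algebraMap R A), hpR, map_zero]
  obtain ⟨m, x, hx⟩ := Module.Finite.exists_fin (R := A) (M := B)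
  have hxp := span_pow_eq_top hp hpA x hx
  have h1 : ∀ i, ∃ c : Fin m → A, ∑ j, c j • x j = x i ^ p := fun i =>
    Submodule.mem_span_range_iff_exists_fun A |>.mp (hx ▸ trivial)
  have h2 : ∀ i, ∃ c : Fin m → A, ∑ j, c j • x j ^ p = x i := fun i =>
    Submodule.mem_span_range_iff_exists_fun A |>.mp (hxp ▸ trivial)
  choose c₀ hc₀ using h1
  choose c₁ hc₁ using h2
  choose l hl using hRA
  let a : Matrix (Fin m) (Fin m) R := fun i j => l (c₀ i j)
  let b : Matrix (Fin m) (Fin m) R := fun i j => l (c₁ i j)
  let U : Matrix (Fin m ⊕ Fin m) (Fin m ⊕ Fin m) R := fromBlocks 1 a 0 1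
  let U' : Matrix (Fin m ⊕ Fin m) (Fin m ⊕ Fin m) R := fromBlocks 1 (-a) 0 1
  let L : Matrix (Fin m ⊕ Fin m) (Fin m ⊕ Fin m) R := fromBlocks 1 0 (-b) 1
  let L' : Matrix (Fin m ⊕ Fin m) (Fin m ⊕ Fin m) R := fromBlocks 1 0 b 1
  let W : Matrix (Fin m ⊕ Fin m) (Fin m ⊕ Fin m) R := fromBlocks 0 (-1) 1 0
  let W' : Matrix (Fin m ⊕ Fin m) (Fin m ⊕ Fin m) R := fromBlocks 0 1 (-1) 0
  let D : Matrix (Fin m ⊕ Fin m) (Fin m ⊕ Fin m) R := U * L * U * W
  let E : Matrix (Fin m ⊕ Fin m) (Fin m ⊕ Fin m) R := W' * U' * L' * U'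
  have hU : U * U' = 1 := by simp [U, U', fromBlocks_multiply, fromBlocks_one]
  have hU' : U' * U = 1 := by simp [U, U', fromBlocks_multiply, fromBlocks_one]
  have hL : L * L' = 1 := by simp [L, L', fromBlocks_multiply, fromBlocks_one]
  have hL' : L' * L = 1 := by simp [L, L', fromBlocks_multiply, fromBlocks_one]
  have hW : W * W' = 1 := by simp [W, W', fromBlocks_multiply, fromBlocks_one]
  have hW' : W' * W = 1 := by simp [W, W', fromBlocks_multiply, fromBlocks_one]
  have hDE : D * E = 1 := by
    simp only [D, E, mul_assoc]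
    rw [← mul_assoc W, hW, one_mul, ← mul_assoc U U', hU, one_mul, ← mul_assoc L, hL, one_mul, hU]
  have hED : E * D = 1 := by
    simp only [D, E, mul_assoc]
    rw [← mul_assoc U' U, hU', one_mul, ← mul_assoc L', hL', one_mul, ← mul_assoc U' U, hU', one_mul, hW']
  let τ : R →+* B := (algebraMap A B).comp (algebraMap R A)
  have hax : (a.map τ).mulVec x = fun i => x i ^ p := funext fun i => by
    rw [← hc₀ i, Matrix.mulVec, dotProduct]
    exact Finset.sum_congr rfl fun j _ => by rw [Matrix.map_apply, Algebra.smul_def]; simp [a, τ, hl]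
  have hbx : (b.map τ).mulVec (fun i => x i ^ p) = x := funext fun i => by
    conv_rhs => rw [← hc₁ i]
    rw [Matrix.mulVec, dotProduct]
    exact Finset.sum_congr rfl fun j _ => by rw [Matrix.map_apply, Algebra.smul_def]; simp [b, τ, hl]
  let z : Fin m ⊕ Fin m → B := Sum.elim x 0
  have hDz : (D.map τ).mulVec z = fun i => z i ^ p := by
    simp only [D, U, L, W, Matrix.map_mul, fromBlocks_map, Matrix.map_one _ (map_zero τ) (map_one τ),
      Matrix.map_zero _ (map_zero τ), Matrix.map_neg _ (map_neg τ), ← Matrix.mulVec_mulVec]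
    rw [fromBlocks_mulVec]
    simp [z, Function.comp_def, fromBlocks_mulVec, hax, hbx, Matrix.neg_mulVec, Matrix.mulVec_zero]
    funext i
    rcases i with i | i <;> simp [zero_pow hp.ne_zero, ← Pi.zero_def, Matrix.mulVec_zero]
  let alg : Algebra R B := τ.toAlgebra
  have : IsScalarTower R A B := IsScalarTower.of_algebraMap_eq' rfl
  have hker : ∀ q ∈ Ideal.span (Set.range (rel p D)), MvPolynomial.aeval (R := R) z q = 0 := fun q hq => by
    refine (Ideal.span_le (I := RingHom.ker (MvPolynomial.aeval (R := R) z))).mpr ?_ hq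
    rintro _ ⟨i, rfl⟩
    simp only [SetLike.mem_coe, RingHom.mem_ker, rel, map_sub, map_pow, map_sum, map_mul,
      MvPolynomial.aeval_X, MvPolynomial.aeval_C, sub_eq_zero]
    exact (congrFun hDz i).symm
  let φ : frobAlg p D →ₐ[R] B := Ideal.Quotient.liftₐ _ (MvPolynomial.aeval (R := R) z) hker
  let ψ : A ⊗[R] frobAlg p D →ₐ[A] B := Algebra.TensorProduct.lift (Algebra.ofId A B) φ fun _ _ => Commute.all _ _
  refine ⟨frobAlg p D, inferInstance, inferInstance, finite_frobAlg hp.two_le D,
    etale_frobAlg hp hpR D E hDE hED, ψ, fun y => ?_⟩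
  have : y ∈ LinearMap.range ψ.toLinearMap := by
    refine (Submodule.span_le.mpr ?_) (hx ▸ trivial : y ∈ Submodule.span A (Set.range x))
    rintro _ ⟨i, rfl⟩
    refine ⟨(1 : A) ⊗ₜ[R] gen p D (Sum.inl i), ?_⟩
    rw [AlgHom.toLinearMap_apply]
    rw [Algebra.TensorProduct.lift_tmul, map_one, one_mul]
    exact MvPolynomial.aeval_X z (Sum.inl i)
  exact this

end Groth.Agent.H80.CharPLift
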