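import Groth.Agent.Lib.Dim.Integral
import Groth.Agent.H80.CharP.FrobeniusLift
import Mathlib.RingTheory.KrullDimension.Polynomial
import Mathlib.RingTheory.QuasiFinite.Basic
import Mathlib.RingTheory.Unramified.LocalStructure
import Mathlib.RingTheory.RingHom.Etale
import Mathlib.RingTheory.RingHom.FinitePresentation
import Mathlib.RingTheory.KrullDimension.Field
import Mathlib.RingTheory.FiniteType
import Mathlib.RingTheory.IntegralClosure.IsIntegralClosure.Basic
import Mathlib.Data.Fin.Tuple.Basic
import Mathlib.Data.Nat.Digits.Lemmas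

/-!
# Etale over affine space in characteristic `p` implies finite etale over affine space
-/

set_option autoImplicit false

universe u

open Polynomial

namespace Groth.Agent.H80.CharPLift

theorem weight_injective {M B p : ℕ} (hp : 0 < p) (v w : Fin (M + 1) → ℕ) (hv : ∀ i, v i < B)
    (hw : ∀ i, w i < B)
    (h : v 0 + ∑ j : Fin M, p * B ^ ((j : ℕ) + 1) * v j.succ = w 0 + ∑ j : Fin M, p * B ^ ((j : ℕ) + 1) * w j.succ) :
    v = w := by
  induction M generalizing p with
  | zero =>
    funext i
    rw [show i = 0 from Fin.ext (by omega)]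
    simpa using h
  | succ M ih =>
    have hB : 0 < B := lt_of_le_of_lt (Nat.zero_le _) (hv 0)
    have split : ∀ u : Fin (M + 1 + 1) → ℕ, ∑ j : Fin (M + 1), p * B ^ ((j : ℕ) + 1) * u j.succ =
        B * (p * (u 1 + ∑ j : Fin M, 1 * B ^ ((j : ℕ) + 1) * u j.succ.succ)) := by
      intro u
      rw [Fin.sum_univ_succ, mul_add, mul_add, Finset.mul_sum, Finset.mul_sum]
      congr 1
      · simp; ring
      · refine Finset.sum_congr rfl fun j _ => ?_
        simp only [Fin.val_succ]
        ring
    rw [split, split] at h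
    have h0 : v 0 = w 0 := by
      have := congrArg (· % B) h
      simpa [Nat.add_mul_mod_self_left, Nat.mod_eq_of_lt (hv 0), Nat.mod_eq_of_lt (hw 0)] using this
    have h1 := Nat.eq_of_mul_eq_mul_left hp (Nat.eq_of_mul_eq_mul_left hB (Nat.add_left_cancel (h0 ▸ h)))
    have := ih Nat.one_pos (fun i => v i.succ) (fun i => w i.succ) (fun i => hv _) (fun i => hw _) h1
    funext i
    induction i using Fin.cases with
    | zero => exact h0
    | succ i => exact congrFun this i

/-- Elimination of one generator, with all exponents divisible by `p`. -/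
theorem exists_integral_shift {k A : Type u} [Field k] [CommRing A] [Algebra k A] {M : ℕ} (v : Fin (M + 1) → A)
    (F : MvPolynomial (Fin (M + 1)) k) (hF : F ≠ 0) (hFv : MvPolynomial.aeval (R := k) v F = 0) (p : ℕ) (hp : 0 < p) :
    ∃ E : Fin M → ℕ, (∀ j, p ∣ E j) ∧
      ∀ S : Subalgebra k A, (∀ j, v j.succ - v 0 ^ E j ∈ S) → IsIntegral S (v 0) := by
  classical
  let B := F.totalDegree + 1
  let E : Fin M → ℕ := fun j => p * B ^ ((j : ℕ) + 1)
  refine ⟨E, fun j => dvd_mul_right _ _, fun S hS => ?_⟩
  let W := MvPolynomial (Fin M) k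
  let D : (Fin (M + 1) →₀ ℕ) → ℕ := fun d => d 0 + ∑ j : Fin M, E j * d j.succ
  let term : (Fin (M + 1) →₀ ℕ) → Polynomial W := fun d =>
    Polynomial.X ^ d 0 * ∏ j : Fin M, (Polynomial.X ^ E j + Polynomial.C (MvPolynomial.X j : W)) ^ d j.succ
  have hBpos : 0 < B := Nat.succ_pos _
  have hEpos : ∀ j, E j ≠ 0 := fun j => (Nat.mul_pos hp (Nat.pow_pos hBpos)).ne'
  have hmon : ∀ d, (term d).Monic := fun d =>
    (monic_X_pow _).mul (monic_prod_of_monic _ _ fun j _ => (monic_X_pow_add_C _ (hEpos j)).pow _)
  have hdeg : ∀ d, (term d).natDegree = D d := fun d => by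
    rw [(monic_X_pow _).natDegree_mul (monic_prod_of_monic _ _ fun j _ => (monic_X_pow_add_C _ (hEpos j)).pow _),
      natDegree_X_pow, natDegree_prod_of_monic _ _ fun j _ => (monic_X_pow_add_C _ (hEpos j)).pow _]
    refine congrArg _ (Finset.sum_congr rfl fun j _ => ?_)
    rw [(monic_X_pow_add_C _ (hEpos j)).natDegree_pow, natDegree_X_pow_add_C, mul_comm]
  have hinj : ∀ d ∈ F.support, ∀ d' ∈ F.support, D d = D d' → d = d' := fun d hd d' hd' h =>
    Finsupp.ext (congrFun (weight_injective hp d d'
      (fun i => Nat.lt_succ_of_le ((MvPolynomial.monomial_le_degreeOf i hd).trans (MvPolynomial.degreeOf_le_totalDegree F i)))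
      (fun i => Nat.lt_succ_of_le ((MvPolynomial.monomial_le_degreeOf i hd').trans (MvPolynomial.degreeOf_le_totalDegree F i)))
      h))
  obtain ⟨d₀, hd₀, hmax⟩ := Finset.exists_max_image F.support D (MvPolynomial.support_nonempty.mpr hF)
  let c₀ := F.coeff d₀
  have hc₀ : c₀ ≠ 0 := MvPolynomial.mem_support_iff.mp hd₀
  let Q : Polynomial W := ∑ d ∈ F.support, Polynomial.C (MvPolynomial.C (c₀⁻¹ * F.coeff d)) * term d
  have hQdeg : Q.natDegree ≤ D d₀ := natDegree_sum_le_of_forall_le _ _ fun d hd =>
    (natDegree_C_mul_le _ _).trans ((hdeg d).le.trans (hmax d hd))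
  have hQcoeff : Q.coeff (D d₀) = 1 := by
    rw [finsetSum_coeff, Finset.sum_eq_single d₀]
    · rw [coeff_C_mul, ← hdeg, (hmon d₀).coeff_natDegree, mul_one, inv_mul_cancel₀ hc₀, map_one]
    · intro d hd hne
      rw [coeff_C_mul, coeff_eq_zero_of_natDegree_lt, mul_zero]
      rw [hdeg]
      exact lt_of_le_of_ne (hmax d hd) fun h => hne (hinj d hd d₀ hd₀ h)
    · exact fun h => absurd hd₀ h
  let z : Fin M → S := fun j => ⟨_, hS j⟩
  refine ⟨Q.map (MvPolynomial.aeval (R := k) z).toRingHom,
    (monic_of_natDegree_le_of_coeff_eq_one _ hQdeg hQcoeff).map _, ?_⟩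
  rw [eval₂_map]
  let φ : W →+* A := (algebraMap S A).comp (MvPolynomial.aeval (R := k) z).toRingHom
  change eval₂ φ (v 0) Q = 0
  rw [eval₂_finsetSum]
  have hφX : ∀ j, φ (MvPolynomial.X j) = v j.succ - v 0 ^ E j := fun j => by
    change (MvPolynomial.aeval (R := k) z (MvPolynomial.X j)).1 = _
    rw [MvPolynomial.aeval_X]
  have hφC : ∀ c : k, φ (MvPolynomial.C c) = algebraMap k A c := fun c => by
    change (MvPolynomial.aeval (R := k) z (MvPolynomial.C c)).1 = _
    rw [MvPolynomial.aeval_C]
    rfl
  calc ∑ d ∈ F.support, eval₂ φ (v 0) (Polynomial.C (MvPolynomial.C (c₀⁻¹ * F.coeff d)) * term d)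
      = ∑ d ∈ F.support, algebraMap k A c₀⁻¹ * (algebraMap k A (F.coeff d) * ∏ i, v i ^ d i) := by
        refine Finset.sum_congr rfl fun d _ => ?_
        rw [eval₂_mul, eval₂_C, hφC, map_mul, mul_assoc]
        congr 2
        simp only [term, eval₂_mul, eval₂_pow, eval₂_X, Polynomial.eval₂_finsetProd, eval₂_add, eval₂_C, hφX]
        rw [Fin.prod_univ_succ]
        simp
    _ = 0 := by
        rw [← Finset.mul_sum]
        rw [MvPolynomial.aeval_def, MvPolynomial.eval₂_eq'] at hFv
        rw [hFv, mul_zero]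

theorem isIntegral_of_adjoin {k A : Type u} [CommRing k] [CommRing A] [Algebra k A] (S : Subalgebra k A)
    (s : Set A) (hs : Algebra.adjoin k s = ⊤) (h : ∀ x ∈ s, IsIntegral S x) : Algebra.IsIntegral S A := by
  refine ⟨fun x => ?_⟩
  have hx : x ∈ Algebra.adjoin k s := hs ▸ trivial
  exact (Algebra.adjoin_le (S := (integralClosure S A).restrictScalars k) h) hx

/-- Noether normalisation by `p`-th power shifts of given elements. -/
theorem exists_isIntegral_adjoin {k : Type u} [Field k] (p : ℕ) [Fact p.Prime] [CharP k p] {n : ℕ} :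
    ∀ (m : ℕ) (A : Type u) [CommRing A] [Algebra k A] (T : Fin n → A) (x : Fin m → A),
      Algebra.adjoin k (Set.range T ∪ Set.range x) = ⊤ → ringKrullDim A ≤ n →
      ∃ g : Fin n → A, Algebra.IsIntegral (Algebra.adjoin k (Set.range fun i => T i + g i ^ p)) A := by
  have hp : p.Prime := Fact.out
  intro m
  induction m with
  | zero =>
    intro A _ _ T x hgen _
    refine ⟨0, isIntegral_of_adjoin _ _ hgen ?_⟩
    rintro y (⟨i, rfl⟩ | ⟨i, -⟩)
    · have : T i ∈ Algebra.adjoin k (Set.range fun i => T i + (0 : Fin n → A) i ^ p) :=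
        Algebra.subset_adjoin ⟨i, by simp [zero_pow hp.ne_zero]⟩
      exact isIntegral_algebraMap (x := (⟨_, this⟩ : Algebra.adjoin k (Set.range fun i => T i + (0 : Fin n → A) i ^ p)))
    · exact i.elim0
  | succ m ih =>
    intro A _ _ T x hgen hdim
    have hpA : (p : A) = 0 := by rw [← map_natCast (algebraMap k A), CharP.cast_eq_zero, map_zero]
    let v : Fin (n + m + 1) → A := Fin.cons (x 0) (Fin.append T fun j => x j.succ)
    have hv : Function.Surjective (MvPolynomial.aeval (R := k) v) := by
      rw [← AlgHom.range_eq_top, eq_top_iff, ← hgen, Algebra.adjoin_le_iff]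
      have hmem : ∀ i, v i ∈ (MvPolynomial.aeval (R := k) v).range := fun i => ⟨MvPolynomial.X i, MvPolynomial.aeval_X v i⟩
      rintro y (⟨i, rfl⟩ | ⟨i, rfl⟩)
      · simpa [v] using hmem (Fin.castAdd m i).succ
      · induction i using Fin.cases with
        | zero => simpa [v] using hmem 0
        | succ j => simpa [v] using hmem (Fin.natAdd n j).succ
    have hninj : ¬ Function.Injective (MvPolynomial.aeval (R := k) v) := fun hi => by
      have := ringKrullDim_eq_of_ringEquiv (RingEquiv.ofBijective (MvPolynomial.aeval (R := k) v) ⟨hi, hv⟩)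
      rw [MvPolynomial.ringKrullDim_of_isNoetherianRing, ringKrullDim_eq_zero_of_field, zero_add, Nat.card_fin] at this
      rw [← this] at hdim
      have h' : (n + m + 1 : ℕ) ≤ n := by exact_mod_cast hdim
      omega
    rw [injective_iff_map_eq_zero] at hninj
    push Not at hninj
    obtain ⟨F, hFv, hF⟩ := hninj
    obtain ⟨E, hpE, hE⟩ := exists_integral_shift v F hF hFv p hp.pos
    let S := Algebra.adjoin k (Set.range fun j => v j.succ - v 0 ^ E j)
    have hx0 : IsIntegral S (v 0) := hE S fun j => Algebra.subset_adjoin ⟨j, rfl⟩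
    have hint : Algebra.IsIntegral S A := by
      refine isIntegral_of_adjoin S _ hgen ?_
      have hj : ∀ j, IsIntegral S (v (Fin.succ j)) := fun j => by
        rw [← sub_add_cancel (v j.succ) (v 0 ^ E j)]
        exact (isIntegral_algebraMap (x := (⟨_, Algebra.subset_adjoin ⟨j, rfl⟩⟩ : S))).add (hx0.pow _)
      rintro y (⟨i, rfl⟩ | ⟨i, rfl⟩)
      · simpa [v] using hj (Fin.castAdd m i)
      · induction i using Fin.cases with
        | zero => simpa [v] using hx0
        | succ j => simpa [v] using hj (Fin.natAdd n j)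
    have hdimS : ringKrullDim S ≤ n := by
      rw [← Lib.Dim.Integral.ringKrullDim_eq_of_isIntegral (R := S) (A := A)]
      exact hdim
    let T' : Fin n → S := fun i =>
      ⟨_, Algebra.subset_adjoin ⟨Fin.castAdd m i, rfl⟩⟩
    let x' : Fin m → S := fun j =>
      ⟨_, Algebra.subset_adjoin ⟨Fin.natAdd n j, rfl⟩⟩
    have hgen' : Algebra.adjoin k (Set.range T' ∪ Set.range x') = ⊤ := by
      refine Subalgebra.map_injective (f := S.val) Subtype.val_injective ?_
      rw [AlgHom.map_adjoin, Algebra.map_top, Subalgebra.range_val, Set.image_union, ← Set.range_comp, ← Set.range_comp]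
      refine congrArg (Algebra.adjoin k) (Set.ext fun y => ⟨?_, ?_⟩)
      · rintro (⟨i, rfl⟩ | ⟨j, rfl⟩) <;> exact ⟨_, rfl⟩
      · rintro ⟨j, rfl⟩
        induction j using Fin.addCases with
        | left i => exact Or.inl ⟨i, rfl⟩
        | right j => exact Or.inr ⟨j, rfl⟩
    obtain ⟨g, hg⟩ := ih S T' x' hgen' hdimS
    choose c hc using hpE
    refine ⟨fun i => (g i : A) - v 0 ^ c (Fin.castAdd m i), ?_⟩
    set A₁ := Algebra.adjoin k (Set.range fun i => T' i + g i ^ p)
    have hmap : A₁.map S.val = Algebra.adjoin k (Set.range fun i =>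
        T i + ((g i : A) - v 0 ^ c (Fin.castAdd m i)) ^ p) := by
      rw [AlgHom.map_adjoin, ← Set.range_comp]
      refine congrArg (fun f => Algebra.adjoin k (Set.range f)) (funext fun i => ?_)
      have hsplit : ((g i : A) - v 0 ^ c (Fin.castAdd m i)) ^ p + v 0 ^ E (Fin.castAdd m i) = (g i : A) ^ p := by
        rw [hc, mul_comm, pow_mul, ← add_pow_of_natCast hp hpA, sub_add_cancel]
      change (v (Fin.castAdd m i).succ - v 0 ^ E (Fin.castAdd m i)) + (g i : A) ^ p = _
      rw [← hsplit]
      simp only [v, Fin.cons_succ, Fin.append_left]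
      ring
    rw [← hmap]
    let := A₁.toCommRing
    refine isIntegral_of_adjoin _ _ hgen fun y _ => ?_
    have h1 : IsIntegral A₁ y := isIntegral_trans (A := S) y (hint.isIntegral y)
    obtain ⟨P, hP, hPy⟩ := h1
    refine ⟨P.map ((S.val.restrictScalars k).comp A₁.val |>.codRestrict (A₁.map S.val) fun a => ⟨_, a.2, rfl⟩).toRingHom,
      hP.map _, ?_⟩
    rw [eval₂_map]
    exact hPy

theorem ringKrullDim_le_of_etale {P C : Type u} [CommRing P] [CommRing C] [Algebra P C] [Algebra.Etale P C] :
    ringKrullDim C ≤ ringKrullDim P :=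
  Order.krullDim_le_of_strictMono (fun q => PrimeSpectrum.comap (algebraMap P C) q) fun q q' hlt =>
    lt_of_le_of_ne (Ideal.comap_mono hlt.le) fun he => hlt.ne (PrimeSpectrum.ext
      (Algebra.QuasiFinite.eq_of_le_of_under_eq (R := P) q.asIdeal q'.asIdeal hlt.le (congrArg PrimeSpectrum.asIdeal he)))

/-- A type synonym carrying a second algebra structure. -/
def Shift (k : Type u) [CommRing k] (n : ℕ) : Type u := MvPolynomial (Fin n) k

noncomputable instance (k : Type u) [CommRing k] (n : ℕ) : CommRing (Shift k n) :=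
  inferInstanceAs (CommRing (MvPolynomial (Fin n) k))

noncomputable instance (k : Type u) [CommRing k] (n : ℕ) : Algebra k (Shift k n) :=
  inferInstanceAs (Algebra k (MvPolynomial (Fin n) k))

/-- Shifting the coordinates by `p`-th powers keeps formal etaleness. -/
theorem formallyEtale_shift {k : Type u} [CommRing k] {p : ℕ} (hp : p.Prime) (hpk : (p : k) = 0) {n : ℕ}
    {C Q : Type u} [CommRing C] [CommRing Q] [Algebra k C] [Algebra (MvPolynomial (Fin n) k) C]
    [IsScalarTower k (MvPolynomial (Fin n) k) C] [Algebra.FormallyEtale (MvPolynomial (Fin n) k) C]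
    [Algebra k Q] [Algebra Q C] [IsScalarTower k Q C] (q : Fin n → Q) (hq : Algebra.adjoin k (Set.range q) = ⊤)
    (g : Fin n → C)
    (hqg : ∀ i, algebraMap Q C (q i) = algebraMap (MvPolynomial (Fin n) k) C (MvPolynomial.X i) + g i ^ p) :
    Algebra.FormallyEtale Q C := by
  rw [Algebra.FormallyEtale.iff_comp_bijective]
  intro S _ algS I hI
  let : Algebra k S := ((algebraMap Q S).comp (algebraMap k Q)).toAlgebra
  have : IsScalarTower k Q S := IsScalarTower.of_algebraMap_eq' rfl
  have hpS : (p : S) = 0 := by rw [← map_natCast (algebraMap k S), hpk, map_zero]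
  have hsq : ∀ a b : S, a - b ∈ I → a ^ p = b ^ p := fun a b he => by
    have h1 : (a - b) ^ p ∈ I ^ p := Ideal.pow_mem_pow he p
    have h2 := (Submodule.mem_bot S).mp (hI ▸ Ideal.pow_le_pow_right hp.two_le h1)
    rw [← sub_add_cancel a b, add_pow_of_natCast hp hpS, h2, zero_add]
  -- an algebra hom over `Q` is the same as one over `k` compatible with the generators
  have hQ : ∀ f : C →ₐ[k] S, (∀ i, f (algebraMap Q C (q i)) = algebraMap Q S (q i)) →
      ∀ c, f (algebraMap Q C c) = algebraMap Q S c := fun f hf c => by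
    have : (f.comp (IsScalarTower.toAlgHom k Q C)) = IsScalarTower.toAlgHom k Q S :=
      AlgHom.ext_of_adjoin_eq_top hq (by rintro _ ⟨i, rfl⟩; exact hf i)
    exact DFunLike.congr_fun this c
  refine ⟨fun f f' hff => ?_, fun fb => ?_⟩
  · have hmod : ∀ c, f c - f' c ∈ I := fun c => Ideal.Quotient.eq.mp (AlgHom.congr_fun hff c)
    let τ : MvPolynomial (Fin n) k →+* S := f.toRingHom.comp (algebraMap _ C)
    let : Algebra (MvPolynomial (Fin n) k) S := τ.toAlgebra
    have hτ' : f'.toRingHom.comp (algebraMap (MvPolynomial (Fin n) k) C) = τ := by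
      refine MvPolynomial.ringHom_ext (fun c => ?_) fun i => ?_
      · change f' (algebraMap (MvPolynomial (Fin n) k) C (algebraMap k _ c)) = f (algebraMap _ C (algebraMap k _ c))
        rw [← IsScalarTower.algebraMap_apply, IsScalarTower.algebraMap_apply k Q C, f'.commutes, f.commutes]
      · change f' (algebraMap _ C (MvPolynomial.X i)) = f (algebraMap _ C (MvPolynomial.X i))
        rw [eq_sub_iff_add_eq.mpr (hqg i).symm, map_sub, map_sub, map_pow, map_pow, f.commutes, f'.commutes,
          hsq _ _ (hmod (g i))]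
    let F : C →ₐ[MvPolynomial (Fin n) k] S := { f.toRingHom with commutes' := fun _ => rfl }
    let F' : C →ₐ[MvPolynomial (Fin n) k] S :=
      { f'.toRingHom with commutes' := fun r => DFunLike.congr_fun hτ' r }
    have := (Algebra.FormallyEtale.iff_comp_bijective.mp
      (inferInstance : Algebra.FormallyEtale (MvPolynomial (Fin n) k) C) I hI).1
      (a₁ := F) (a₂ := F') (AlgHom.ext fun c => Ideal.Quotient.eq.mpr (hmod c))
    exact AlgHom.ext fun c => DFunLike.congr_fun this c
  · choose y hy using fun i => Ideal.Quotient.mk_surjective (fb (g i))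
    let τ : MvPolynomial (Fin n) k →ₐ[k] S :=
      MvPolynomial.aeval (R := k) fun i => algebraMap Q S (q i) - y i ^ p
    let : Algebra (MvPolynomial (Fin n) k) S := τ.toRingHom.toAlgebra
    have hfb : ∀ r : MvPolynomial (Fin n) k, fb (algebraMap _ C r) = Ideal.Quotient.mk I (τ r) := by
      intro r
      refine DFunLike.congr_fun (MvPolynomial.ringHom_ext (f := fb.toRingHom.comp (algebraMap _ C))
        (g := (Ideal.Quotient.mk I).comp τ.toRingHom) (fun c => ?_) fun i => ?_) r
      · change fb (algebraMap (MvPolynomial (Fin n) k) C (algebraMap k _ c)) = Ideal.Quotient.mk I (τ (algebraMap k _ c))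
        rw [← IsScalarTower.algebraMap_apply, IsScalarTower.algebraMap_apply k Q C, fb.commutes, τ.commutes]
        rfl
      · change fb (algebraMap _ C (MvPolynomial.X i)) = Ideal.Quotient.mk I (τ (MvPolynomial.X i))
        rw [eq_sub_iff_add_eq.mpr (hqg i).symm, map_sub, map_pow, fb.commutes, MvPolynomial.aeval_X, map_sub,
          map_pow, hy]
        rfl
    let Fb : C →ₐ[MvPolynomial (Fin n) k] S ⧸ I := { fb.toRingHom with commutes' := hfb }
    obtain ⟨F, hF⟩ := (Algebra.FormallyEtale.iff_comp_bijective.mp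
      (inferInstance : Algebra.FormallyEtale (MvPolynomial (Fin n) k) C) I hI).2 Fb
    have hFmod : ∀ c, Ideal.Quotient.mk I (F c) = fb c := fun c => DFunLike.congr_fun hF c
    have hFk : ∀ c : k, F (algebraMap k C c) = algebraMap k S c := fun c => by
      rw [IsScalarTower.algebraMap_apply k (MvPolynomial (Fin n) k) C, F.commutes]
      exact τ.commutes c
    let Fk : C →ₐ[k] S := { F.toRingHom with commutes' := hFk }
    have hFQ := hQ Fk fun i => by
      change F (algebraMap Q C (q i)) = _
      rw [hqg, map_add, F.commutes, map_pow, hsq (F (g i)) (y i) (Ideal.Quotient.eq.mp ((hFmod _).trans (hy i).symm))]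
      change τ (MvPolynomial.X i) + _ = _
      rw [MvPolynomial.aeval_X, sub_add_cancel]
    exact ⟨{ F.toRingHom with commutes' := hFQ }, AlgHom.ext hFmod⟩

theorem etale_shift {k : Type u} [Field k] {p : ℕ} [Fact p.Prime] [CharP k p] {n : ℕ} (C : Type u)
    [CommRing C] [Algebra (MvPolynomial (Fin n) k) C] [Algebra k C] [IsScalarTower k (MvPolynomial (Fin n) k) C]
    [Algebra.Etale (MvPolynomial (Fin n) k) C] (g : Fin n → C) (φ : MvPolynomial (Fin n) k →ₐ[k] C)
    (hφ : ∀ i, φ (MvPolynomial.X i) = algebraMap (MvPolynomial (Fin n) k) C (MvPolynomial.X i) + g i ^ p)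
    (hft : φ.toRingHom.FiniteType) : φ.toRingHom.Etale := by
  let ψ : Shift k n →ₐ[k] C := φ
  let : Algebra (Shift k n) C := ψ.toRingHom.toAlgebra
  have : IsScalarTower k (Shift k n) C := IsScalarTower.of_algebraMap_eq fun c => (ψ.commutes c).symm
  let q : Fin n → Shift k n := fun i => (MvPolynomial.X i : MvPolynomial (Fin n) k)
  have hq : Algebra.adjoin k (Set.range q) = ⊤ := MvPolynomial.adjoin_range_X
  have h1 := formallyEtale_shift (k := k) (C := C) (Fact.out : p.Prime) (CharP.cast_eq_zero k p) q hq g hφ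
  have h2 : φ.toRingHom.FinitePresentation := RingHom.FinitePresentation.of_finiteType.mp hft
  exact @Algebra.Etale.mk (Shift k n) C _ _ _ h1 h2

set_option maxHeartbeats 1000000 in
theorem exists_finite_etale {k : Type u} [Field k] (p : ℕ) [Fact p.Prime] [CharP k p] {n : ℕ} (C : Type u)
    [CommRing C] [Algebra (MvPolynomial (Fin n) k) C] [Algebra k C] [IsScalarTower k (MvPolynomial (Fin n) k) C]
    [Algebra.Etale (MvPolynomial (Fin n) k) C] :
    ∃ φ : MvPolynomial (Fin n) k →ₐ[k] C, φ.toRingHom.Finite ∧ φ.toRingHom.Etale := by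
  classical
  have hp : p.Prime := Fact.out
  let P := MvPolynomial (Fin n) k
  let T : Fin n → C := fun i => algebraMap P C (MvPolynomial.X i)
  have : Algebra.FiniteType k C := Algebra.FiniteType.trans (S := P) inferInstance inferInstance
  obtain ⟨m, x, hx⟩ : ∃ (m : ℕ) (x : Fin m → C), Algebra.adjoin k (Set.range x) = ⊤ := by
    obtain ⟨s, hs⟩ := Algebra.FiniteType.out (R := k) (A := C)
    exact ⟨s.card, fun i => (s.equivFin.symm i : C), by
      rw [show (Set.range fun i => (s.equivFin.symm i : C)) = (s : Set C) by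
        rw [show (fun i => (s.equivFin.symm i : C)) = Subtype.val ∘ s.equivFin.symm from rfl,
          s.equivFin.symm.surjective.range_comp, Subtype.range_coe_subtype]; rfl, hs]⟩
  have hdim : ringKrullDim C ≤ n := by
    refine (ringKrullDim_le_of_etale (P := P) (C := C)).trans (le_of_eq ?_)
    rw [MvPolynomial.ringKrullDim_of_isNoetherianRing, ringKrullDim_eq_zero_of_field, zero_add, Nat.card_fin]
  obtain ⟨g, hg⟩ := exists_isIntegral_adjoin p m C T x
    (top_le_iff.mp (hx ▸ Algebra.adjoin_mono Set.subset_union_right)) hdim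
  let φ : P →ₐ[k] C := MvPolynomial.aeval (R := k) fun i => T i + g i ^ p
  refine ⟨φ, ?_⟩
  have hφint : φ.toRingHom.IsIntegral := by
    intro y
    rcases subsingleton_or_nontrivial C with _ | _
    · exact ⟨1, Polynomial.monic_one, Subsingleton.elim _ _⟩
    obtain ⟨Q, hQ, hQy⟩ := hg.isIntegral y
    have hrange : (Algebra.adjoin k (Set.range fun i => T i + g i ^ p)).toSubring ≤ φ.toRingHom.range := by
      rw [Algebra.adjoin_range_eq_range_aeval]
      rintro _ ⟨q, rfl⟩
      exact ⟨q, rfl⟩
    obtain ⟨Q', hQ'map, -, hQ'⟩ := Polynomial.lifts_and_degree_eq_and_monic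
      (show Q.map (Algebra.adjoin k (Set.range fun i => T i + g i ^ p)).val.toRingHom ∈ Polynomial.lifts φ.toRingHom from
        (Polynomial.lifts_iff_coeff_lifts _).mpr fun i => by
          rw [Polynomial.coeff_map]
          exact hrange (Q.coeff i).2) (hQ.map _)
    refine ⟨Q', hQ', ?_⟩
    rw [← Polynomial.eval_map, hQ'map, Polynomial.eval_map]
    exact hQy
  have hft : φ.toRingHom.FiniteType := RingHom.FiniteType.of_comp_finiteType
    (f := algebraMap k P) (g := φ.toRingHom) (by rw [show φ.toRingHom.comp (algebraMap k P) = algebraMap k C from φ.comp_algebraMap]; exact RingHom.finiteType_algebraMap.mpr inferInstance)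
  have hfin : φ.toRingHom.Finite := hφint.to_finite hft
  exact ⟨hfin, etale_shift C g φ (fun i => MvPolynomial.aeval_X _ i) hft⟩

end Groth.Agent.H80.CharPLift
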